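import Cfsg.Agent.Lib.Comp.Suz.Simple
import Cfsg.Agent.Lib.Comp.Bridge2
import Cfsg.Prelude.Def_Spor_Suz

/-! The presented Suzuki group is the permutation group `cl (gp nets) L` of degree 1782. -/

namespace Cfsg.Lib.Comp.Suz

open Cfsg.Spor

def all : List Suz.Gen := [.a, .b, .c, .d, .e, .f, .g]
def ix (x : Suz.Gen) : ℕ := List.idxOf x all + 1
def D : List (Suz.Gen × Bool) := all.map fun x => (x, true)
theorem ok : CoxOK Suz.edges Suz.extra all ix D iv R L := by decide +kernel
theorem hall : ∀ x, x ∈ all := by intro x; cases x <;> decide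

theorem equiv : ∃ e : Spor.Suz ≃* cl (gp nets) L, ∀ x ∈ L, (e (cval Suz.edges Suz.extra D x) : Equiv.Perm ℕ) = gp nets x := by
  have := nets_ok.finite L
  obtain ⟨e, he, -⟩ := ok.equiv hall ord nets_iv nets_rel lb
  exact ⟨e, he⟩

theorem main : IsSimpleGroup Spor.Suz ∧ Nat.card Spor.Suz = 448345497600 := by
  obtain ⟨e, -⟩ := equiv
  have := simple
  exact ⟨e.isSimpleGroup, (Nat.card_congr e.toEquiv).trans card⟩

end Cfsg.Lib.Comp.Suz
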