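import Cfsg.Agent.Lib.Comp.Suz.U7
import Cfsg.Agent.Lib.Comp.Suz.Main

set_option maxRecDepth 100000
set_option Elab.async false

namespace Cfsg.Lib.Comp.Suz

universe u

theorem U_n_iv : IvOK (gp U_n) iv := ivOK_of_ivB (k := 15) U_n_ok (by norm_num) (by decide +kernel)

theorem U_act : cnd (transB U_n L [5,4,3,2,4,1,6,7,2,3,5,4,2,6,1,2,5,3,7,2,4,1,6,7,2,3,5,4,2,7,6,5,2,3,7,2,4,3] 22880) (cnd (allL ([1,2,3,4,6,7].map fun x => [x]) fun w => subB w L) (wfixB U_n ([1,2,3,4,6,7].map fun x => [x]) 0) false) false = true := by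
  decide +kernel

end Cfsg.Lib.Comp.Suz
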