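import Cfsg.Agent.Lib.Comp.Tr

set_option maxRecDepth 100000

namespace Cfsg.Lib.Comp.Suz

universe u

def iv : ℕ → ℕ := (fun x => x)

noncomputable def R : List (List ℕ × ℕ) := [([1],1),
 ([2],1),
 ([3],1),
 ([4],1),
 ([5],1),
 ([6],1),
 ([7],1),
 ([1,2],4),
 ([1,3],1),
 ([1,4],1),
 ([1,5],1),
 ([1,6],1),
 ([1,7],1),
 ([2,3],2),
 ([2,4],1),
 ([2,5],1),
 ([2,6],2),
 ([2,7],2),
 ([3,4],7),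
 ([3,5],1),
 ([3,6],1),
 ([3,7],1),
 ([4,5],2),
 ([4,6],1),
 ([4,7],1),
 ([5,6],1),
 ([5,7],1),
 ([6,7],3),
 ([1,4,3,4,3,4,3,4,3],0),
 ([1,7,6,7,6],0),
 ([1,2,3,6],4),
 ([2,6,7],4),
 ([2,3,4,3,4,2,3,4,3,4,2,3,4,3,4,2,3,4,3,4,2,3,4,3,4,5],2)]

def L : List ℕ := [1,2,3,4,5,6,7]

end Cfsg.Lib.Comp.Suz
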