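import Cfsg.Agent.Lib.Comp.Suz.Cv20

set_option maxRecDepth 100000
set_option Elab.async false

namespace Cfsg.Lib.Comp.Suz

universe u

theorem Cv2n_r0_0 : eqB 65536 16 0 16 Cv2n [1] 1 [] = true := by decide +kernel

theorem Cv2n_r1_0 : eqB 65536 16 0 16 Cv2n [2] 1 [] = true := by decide +kernel

theorem Cv2n_r2_0 : eqB 65536 16 0 16 Cv2n [3] 1 [] = true := by decide +kernel

theorem Cv2n_r3_0 : eqB 65536 16 0 16 Cv2n [4,4,8] 0 [] = true := by decide +kernel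

theorem Cv2n_r4_0 : eqB 65536 16 0 16 Cv2n [5,5,8] 0 [] = true := by decide +kernel

theorem Cv2n_r5_0 : eqB 65536 16 0 16 Cv2n [6] 1 [] = true := by decide +kernel

theorem Cv2n_r6_0 : eqB 65536 16 0 16 Cv2n [7] 1 [] = true := by decide +kernel

theorem Cv2n_r7_0 : eqB 65536 16 0 16 Cv2n [1,2] 4 [] = true := by decide +kernel

theorem Cv2n_r8_0 : eqB 65536 16 0 16 Cv2n [1,3] 1 [] = true := by decide +kernel

theorem Cv2n_r9_0 : eqB 65536 16 0 16 Cv2n [1,4,1,4,8] 0 [] = true := by decide +kernel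

theorem Cv2n_r10_0 : eqB 65536 16 0 16 Cv2n [1,5,1,5,8] 0 [] = true := by decide +kernel

theorem Cv2n_r11_0 : eqB 65536 16 0 16 Cv2n [1,6] 1 [] = true := by decide +kernel

theorem Cv2n_r12_0 : eqB 65536 16 0 16 Cv2n [1,7] 1 [] = true := by decide +kernel

theorem Cv2n_r13_0 : eqB 65536 16 0 16 Cv2n [2,3] 2 [] = true := by decide +kernel

theorem Cv2n_r14_0 : eqB 65536 16 0 16 Cv2n [2,4,2,4,8] 0 [] = true := by decide +kernel

theorem Cv2n_r15_0 : eqB 65536 16 0 16 Cv2n [2,5,2,5,8] 0 [] = true := by decide +kernel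

theorem Cv2n_r16_0 : eqB 65536 16 0 16 Cv2n [2,6] 2 [] = true := by decide +kernel

theorem Cv2n_r17_0 : eqB 65536 16 0 16 Cv2n [2,7] 2 [] = true := by decide +kernel

theorem Cv2n_r18_0 : eqB 65536 16 0 16 Cv2n [3,4] 7 [] = true := by decide +kernel

theorem Cv2n_r19_0 : eqB 65536 16 0 16 Cv2n [3,5,3,5,8] 0 [] = true := by decide +kernel

theorem Cv2n_r20_0 : eqB 65536 16 0 16 Cv2n [3,6] 1 [] = true := by decide +kernel

theorem Cv2n_r21_0 : eqB 65536 16 0 16 Cv2n [3,7] 1 [] = true := by decide +kernel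

theorem Cv2n_r22_0 : eqB 65536 16 0 16 Cv2n [4,5] 2 [] = true := by decide +kernel

theorem Cv2n_r23_0 : eqB 65536 16 0 16 Cv2n [4,6,4,6,8] 0 [] = true := by decide +kernel

theorem Cv2n_r24_0 : eqB 65536 16 0 16 Cv2n [4,7,4,7,8] 0 [] = true := by decide +kernel

theorem Cv2n_r25_0 : eqB 65536 16 0 16 Cv2n [5,6,5,6,8] 0 [] = true := by decide +kernel

theorem Cv2n_r26_0 : eqB 65536 16 0 16 Cv2n [5,7,5,7,8] 0 [] = true := by decide +kernel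

theorem Cv2n_r27_0 : eqB 65536 16 0 16 Cv2n [6,7] 3 [] = true := by decide +kernel

theorem Cv2n_r28_0 : eqB 65536 16 0 16 Cv2n [1,4,3,4,3,4,3,4,3] 0 [] = true := by decide +kernel

theorem Cv2n_r29_0 : eqB 65536 16 0 16 Cv2n [1,7,6,7,6] 0 [] = true := by decide +kernel

theorem Cv2n_r30_0 : eqB 65536 16 0 16 Cv2n [1,2,3,6,1,2,3,6,1,2,3,6,1,2,3,6,1,2,3,6,8] 0 [] = true := by decide +kernel

theorem Cv2n_r31_0 : eqB 65536 16 0 16 Cv2n [2,6,7] 4 [] = true := by decide +kernel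

theorem Cv2n_r32_0 : eqB 65536 16 0 16 Cv2n [2,3,4,3,4,2,3,4,3,4,2,3,4,3,4,2,3,4,3,4,2,3,4,3,4,5] 2 [] = true := by decide +kernel

theorem Cv2n_r33_0 : eqB 65536 16 0 16 Cv2n [8] 1 [] = true := by decide +kernel

theorem Cv2n_rel : Rels (gp Cv2n) Cv2R := by
  unfold Cv2R
  try simp only [apd_eq]
  intro r hr
  simp only [List.mem_append, List.mem_cons, List.not_mem_nil, or_false, or_assoc] at hr
  rcases hr with rfl | rfl | rfl | rfl | rfl | rfl | rfl | rfl | rfl | rfl | rfl | rfl | rfl | rfl | rfl | rfl | rfl | rfl | rfl | rfl | rfl | rfl | rfl | rfl | rfl | rfl | rfl | rfl | rfl | rfl | rfl | rfl | rfl | rfl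
  · exact AgreeBits.eq (k := 16) (agree_of_eqB Cv2n_ok (by norm_num) Cv2n_r0_0) (by norm_num) ((fx_ev Cv2n_ok.fx _).pow _) (Fx.one _)
  · exact AgreeBits.eq (k := 16) (agree_of_eqB Cv2n_ok (by norm_num) Cv2n_r1_0) (by norm_num) ((fx_ev Cv2n_ok.fx _).pow _) (Fx.one _)
  · exact AgreeBits.eq (k := 16) (agree_of_eqB Cv2n_ok (by norm_num) Cv2n_r2_0) (by norm_num) ((fx_ev Cv2n_ok.fx _).pow _) (Fx.one _)
  · exact AgreeBits.eq (k := 16) (agree_of_eqB Cv2n_ok (by norm_num) Cv2n_r3_0) (by norm_num) ((fx_ev Cv2n_ok.fx _).pow _) (Fx.one _)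
  · exact AgreeBits.eq (k := 16) (agree_of_eqB Cv2n_ok (by norm_num) Cv2n_r4_0) (by norm_num) ((fx_ev Cv2n_ok.fx _).pow _) (Fx.one _)
  · exact AgreeBits.eq (k := 16) (agree_of_eqB Cv2n_ok (by norm_num) Cv2n_r5_0) (by norm_num) ((fx_ev Cv2n_ok.fx _).pow _) (Fx.one _)
  · exact AgreeBits.eq (k := 16) (agree_of_eqB Cv2n_ok (by norm_num) Cv2n_r6_0) (by norm_num) ((fx_ev Cv2n_ok.fx _).pow _) (Fx.one _)
  · exact AgreeBits.eq (k := 16) (agree_of_eqB Cv2n_ok (by norm_num) Cv2n_r7_0) (by norm_num) ((fx_ev Cv2n_ok.fx _).pow _) (Fx.one _)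
  · exact AgreeBits.eq (k := 16) (agree_of_eqB Cv2n_ok (by norm_num) Cv2n_r8_0) (by norm_num) ((fx_ev Cv2n_ok.fx _).pow _) (Fx.one _)
  · exact AgreeBits.eq (k := 16) (agree_of_eqB Cv2n_ok (by norm_num) Cv2n_r9_0) (by norm_num) ((fx_ev Cv2n_ok.fx _).pow _) (Fx.one _)
  · exact AgreeBits.eq (k := 16) (agree_of_eqB Cv2n_ok (by norm_num) Cv2n_r10_0) (by norm_num) ((fx_ev Cv2n_ok.fx _).pow _) (Fx.one _)
  · exact AgreeBits.eq (k := 16) (agree_of_eqB Cv2n_ok (by norm_num) Cv2n_r11_0) (by norm_num) ((fx_ev Cv2n_ok.fx _).pow _) (Fx.one _)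
  · exact AgreeBits.eq (k := 16) (agree_of_eqB Cv2n_ok (by norm_num) Cv2n_r12_0) (by norm_num) ((fx_ev Cv2n_ok.fx _).pow _) (Fx.one _)
  · exact AgreeBits.eq (k := 16) (agree_of_eqB Cv2n_ok (by norm_num) Cv2n_r13_0) (by norm_num) ((fx_ev Cv2n_ok.fx _).pow _) (Fx.one _)
  · exact AgreeBits.eq (k := 16) (agree_of_eqB Cv2n_ok (by norm_num) Cv2n_r14_0) (by norm_num) ((fx_ev Cv2n_ok.fx _).pow _) (Fx.one _)
  · exact AgreeBits.eq (k := 16) (agree_of_eqB Cv2n_ok (by norm_num) Cv2n_r15_0) (by norm_num) ((fx_ev Cv2n_ok.fx _).pow _) (Fx.one _)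
  · exact AgreeBits.eq (k := 16) (agree_of_eqB Cv2n_ok (by norm_num) Cv2n_r16_0) (by norm_num) ((fx_ev Cv2n_ok.fx _).pow _) (Fx.one _)
  · exact AgreeBits.eq (k := 16) (agree_of_eqB Cv2n_ok (by norm_num) Cv2n_r17_0) (by norm_num) ((fx_ev Cv2n_ok.fx _).pow _) (Fx.one _)
  · exact AgreeBits.eq (k := 16) (agree_of_eqB Cv2n_ok (by norm_num) Cv2n_r18_0) (by norm_num) ((fx_ev Cv2n_ok.fx _).pow _) (Fx.one _)
  · exact AgreeBits.eq (k := 16) (agree_of_eqB Cv2n_ok (by norm_num) Cv2n_r19_0) (by norm_num) ((fx_ev Cv2n_ok.fx _).pow _) (Fx.one _)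
  · exact AgreeBits.eq (k := 16) (agree_of_eqB Cv2n_ok (by norm_num) Cv2n_r20_0) (by norm_num) ((fx_ev Cv2n_ok.fx _).pow _) (Fx.one _)
  · exact AgreeBits.eq (k := 16) (agree_of_eqB Cv2n_ok (by norm_num) Cv2n_r21_0) (by norm_num) ((fx_ev Cv2n_ok.fx _).pow _) (Fx.one _)
  · exact AgreeBits.eq (k := 16) (agree_of_eqB Cv2n_ok (by norm_num) Cv2n_r22_0) (by norm_num) ((fx_ev Cv2n_ok.fx _).pow _) (Fx.one _)
  · exact AgreeBits.eq (k := 16) (agree_of_eqB Cv2n_ok (by norm_num) Cv2n_r23_0) (by norm_num) ((fx_ev Cv2n_ok.fx _).pow _) (Fx.one _)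
  · exact AgreeBits.eq (k := 16) (agree_of_eqB Cv2n_ok (by norm_num) Cv2n_r24_0) (by norm_num) ((fx_ev Cv2n_ok.fx _).pow _) (Fx.one _)
  · exact AgreeBits.eq (k := 16) (agree_of_eqB Cv2n_ok (by norm_num) Cv2n_r25_0) (by norm_num) ((fx_ev Cv2n_ok.fx _).pow _) (Fx.one _)
  · exact AgreeBits.eq (k := 16) (agree_of_eqB Cv2n_ok (by norm_num) Cv2n_r26_0) (by norm_num) ((fx_ev Cv2n_ok.fx _).pow _) (Fx.one _)
  · exact AgreeBits.eq (k := 16) (agree_of_eqB Cv2n_ok (by norm_num) Cv2n_r27_0) (by norm_num) ((fx_ev Cv2n_ok.fx _).pow _) (Fx.one _)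
  · exact AgreeBits.eq (k := 16) (agree_of_eqB Cv2n_ok (by norm_num) Cv2n_r28_0) (by norm_num) ((fx_ev Cv2n_ok.fx _).pow _) (Fx.one _)
  · exact AgreeBits.eq (k := 16) (agree_of_eqB Cv2n_ok (by norm_num) Cv2n_r29_0) (by norm_num) ((fx_ev Cv2n_ok.fx _).pow _) (Fx.one _)
  · exact AgreeBits.eq (k := 16) (agree_of_eqB Cv2n_ok (by norm_num) Cv2n_r30_0) (by norm_num) ((fx_ev Cv2n_ok.fx _).pow _) (Fx.one _)
  · exact AgreeBits.eq (k := 16) (agree_of_eqB Cv2n_ok (by norm_num) Cv2n_r31_0) (by norm_num) ((fx_ev Cv2n_ok.fx _).pow _) (Fx.one _)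
  · exact AgreeBits.eq (k := 16) (agree_of_eqB Cv2n_ok (by norm_num) Cv2n_r32_0) (by norm_num) ((fx_ev Cv2n_ok.fx _).pow _) (Fx.one _)
  · exact AgreeBits.eq (k := 16) (agree_of_eqB Cv2n_ok (by norm_num) Cv2n_r33_0) (by norm_num) ((fx_ev Cv2n_ok.fx _).pow _) (Fx.one _)

end Cfsg.Lib.Comp.Suz
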