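import Cfsg.Agent.Lib.Comp.Suz.Cv21

set_option maxRecDepth 100000
set_option Elab.async false

namespace Cfsg.Lib.Comp.Suz

universe u

theorem Cv2_z1 : ev (gp Cv2n) [1,8] ^ (0 + 1) = ev (gp Cv2n) [8,1] :=
  eq_of_eqB (k := 16) Cv2n_ok (by norm_num) (by decide +kernel)

theorem Cv2_z2 : ev (gp Cv2n) [2,8] ^ (0 + 1) = ev (gp Cv2n) [8,2] :=
  eq_of_eqB (k := 16) Cv2n_ok (by norm_num) (by decide +kernel)

theorem Cv2_z3 : ev (gp Cv2n) [3,8] ^ (0 + 1) = ev (gp Cv2n) [8,3] :=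
  eq_of_eqB (k := 16) Cv2n_ok (by norm_num) (by decide +kernel)

theorem Cv2_z4 : ev (gp Cv2n) [4,8] ^ (0 + 1) = ev (gp Cv2n) [8,4] :=
  eq_of_eqB (k := 16) Cv2n_ok (by norm_num) (by decide +kernel)

theorem Cv2_z5 : ev (gp Cv2n) [5,8] ^ (0 + 1) = ev (gp Cv2n) [8,5] :=
  eq_of_eqB (k := 16) Cv2n_ok (by norm_num) (by decide +kernel)

theorem Cv2_z6 : ev (gp Cv2n) [6,8] ^ (0 + 1) = ev (gp Cv2n) [8,6] :=
  eq_of_eqB (k := 16) Cv2n_ok (by norm_num) (by decide +kernel)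

theorem Cv2_z7 : ev (gp Cv2n) [7,8] ^ (0 + 1) = ev (gp Cv2n) [8,7] :=
  eq_of_eqB (k := 16) Cv2n_ok (by norm_num) (by decide +kernel)

theorem Cv2_a : ev (gp Cv2n) (apd [6,2,3] [3,2,6]) ^ (0 + 1) = ev (gp Cv2n) [] :=
  eq_of_eqB (k := 16) Cv2n_ok (by norm_num) (by decide +kernel)

theorem Cv2_b : ev (gp Cv2n) (apd [2,1] [1,2]) ^ (0 + 1) = ev (gp Cv2n) [] :=
  eq_of_eqB (k := 16) Cv2n_ok (by norm_num) (by decide +kernel)

theorem Cv2_c : ev (gp Cv2n) (apd [6,2,3] (apd [2,1] (apd [3,2,6] [1,2]))) ^ (2 + 1) = ev (gp Cv2n) [8] :=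
  eq_of_eqB (k := 16) Cv2n_ok (by norm_num) (by decide +kernel)

theorem Cv2 (hs : IsSimpleGroup (cl (gp nets) L)) : Cover (cl (gp nets) L) (2 ^ (0 + 1)) :=
  cover_nets (R := R) hs nets_iv nets_rel (ord.of_cons (cons_of_subset (by decide +kernel))) lb Cv2n_ok Cv2n_rel (m := 2) (by decide +kernel)
    (by unfold L; simp only [List.forall_mem_cons]; exact ⟨Cv2_z1, Cv2_z2, Cv2_z3, Cv2_z4, Cv2_z5, Cv2_z6, Cv2_z7, by simp⟩) Cv2_a Cv2_b Cv2_c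
    (x := 1) (y := 2) (k := 1) (pt := 0) (pt' := 0) (by norm_num) (by decide +kernel) (by norm_num) (by decide +kernel)

end Cfsg.Lib.Comp.Suz
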