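import Cfsg.Agent.Lib.Comp.Suz.Base
import Cfsg.Agent.Lib.Comp.Fast

set_option maxRecDepth 100000

namespace Cfsg.Lib.Comp.Suz

universe u

noncomputable def MuaH0_1_R : List (List ℕ × ℕ) := [([1],1),
 ([2],1),
 ([1,2],4)]

noncomputable def MuaH0_1_n_1 : Net :=
 (Net.cons 1 (nat_lit 0xa)
 Net.nil)

noncomputable def MuaH0_1_n_2 : Net :=
 (Net.cons 1 (nat_lit 0x5)
 Net.nil)

noncomputable def MuaH0_1_n : List Net := [Net.nil,
 MuaH0_1_n_1,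
 MuaH0_1_n_2]

theorem MuaH0_1_n_ok : NetsOK 5 MuaH0_1_n := netsOK_of (by decide +kernel)

theorem MuaH0_1_n_rel : Rels (gp MuaH0_1_n) MuaH0_1_R := rels_of_relsB (k := 3) MuaH0_1_n_ok (by norm_num) (by decide +kernel)

theorem MuaH0_1_fin : finB 5 MuaH0_1_n [1,2] 5 (runH 5 MuaH0_1_n (fun x p => ptInv (nth Net.nil MuaH0_1_n x) p) iv MuaH0_1_R [] ([1].map fun x => [x]) 0 []
  [1,0,4,8]
  (defsH 5 MuaH0_1_n (ones 40) [2,1,2,1] (Nat.shiftLeft 1 0) 0)) = true := by decide +kernel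

theorem MuaH0_1_idx : Idx.{u} iv (MuaH0_1_R ++ []) ([1].map fun x => [x]) [1,2] 5 :=
  Reach.idx MuaH0_1_n_ok (reach_runH MuaH0_1_n_ok (fun x p _ => ptInv_gp MuaH0_1_n_ok x p) MuaH0_1_n_rel (reach_defsH MuaH0_1_n_ok _ _ _ _ _ _) _ _) MuaH0_1_fin (by norm_num)

end Cfsg.Lib.Comp.Suz
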