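import Cfsg.Agent.Lib.Comp.Suz.Base
import Cfsg.Agent.Lib.Comp.Fast

set_option maxRecDepth 100000

namespace Cfsg.Lib.Comp.Suz

universe u

noncomputable def MuaH1_1_R : List (List ℕ × ℕ) := [([1],1),
 ([2],1),
 ([6],1),
 ([1,2],4),
 ([1,6],1),
 ([2,6],2),
 ([1,2,6],4)]

noncomputable def MuaH1_1_n_1 : Net :=
 (Net.cons 3 (nat_lit 0x6)
 (Net.cons 1 (nat_lit 0x8)
 (Net.cons 1 (nat_lit 0x12)
 (Net.cons 1 (nat_lit 0x8)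
 (Net.cons 3 (nat_lit 0x6)
 Net.nil)))))

noncomputable def MuaH1_1_n_2 : Net :=
 (Net.cons 1 (nat_lit 0x8)
 (Net.cons 1 (nat_lit 0x2)
 Net.nil))

noncomputable def MuaH1_1_n_6 : Net :=
 (Net.cons 1 (nat_lit 0x1)
 (Net.cons 1 (nat_lit 0x10)
 Net.nil))

noncomputable def MuaH1_1_n : List Net := [Net.nil,
 MuaH1_1_n_1,
 MuaH1_1_n_2,
 Net.nil,
 Net.nil,
 Net.nil,
 MuaH1_1_n_6]

theorem MuaH1_1_n_ok : NetsOK 6 MuaH1_1_n := netsOK_of (by decide +kernel)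

theorem MuaH1_1_n_rel : Rels (gp MuaH1_1_n) MuaH1_1_R := rels_of_relsB (k := 3) MuaH1_1_n_ok (by norm_num) (by decide +kernel)

theorem MuaH1_1_fin : finB 6 MuaH1_1_n [1,2,6] 6 (runH 6 MuaH1_1_n (fun x p => ptInv (nth Net.nil MuaH1_1_n x) p) iv MuaH1_1_R [] ([1,2].map fun x => [x]) 0 []
  [1,5,0,4,8,16,20,16,20,24,0]
  (defsH 6 MuaH1_1_n (ones 48) [6,2,1,2,6] (Nat.shiftLeft 1 0) 0)) = true := by decide +kernel

theorem MuaH1_1_idx : Idx.{u} iv (MuaH1_1_R ++ []) ([1,2].map fun x => [x]) [1,2,6] 6 :=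
  Reach.idx MuaH1_1_n_ok (reach_runH MuaH1_1_n_ok (fun x p _ => ptInv_gp MuaH1_1_n_ok x p) MuaH1_1_n_rel (reach_defsH MuaH1_1_n_ok _ _ _ _ _ _) _ _) MuaH1_1_fin (by norm_num)

end Cfsg.Lib.Comp.Suz
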