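import Cfsg.Agent.Lib.Comp.Suz.Base
import Cfsg.Agent.Lib.Comp.Fast

set_option maxRecDepth 100000

namespace Cfsg.Lib.Comp.Suz

universe u

noncomputable def MuaH2_2_R : List (List ℕ × ℕ) := [([1],1),
 ([3],1),
 ([4],1),
 ([1,3],1),
 ([1,4],1),
 ([3,4],7),
 ([1,4,3,4,3,4,3,4,3],0)]

noncomputable def MuaH2_2_n_1 : Net :=
 (Net.cons 8 (nat_lit 0xc0)
 (Net.cons 4 (nat_lit 0xc)
 (Net.cons 1 (nat_lit 0x5)
 (Net.cons 2 (nat_lit 0x3330)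
 (Net.cons 4 (nat_lit 0xf0c)
 (Net.cons 8 (nat_lit 0xc0)
 Net.nil))))))

noncomputable def MuaH2_2_n_3 : Net :=
 (Net.cons 8 (nat_lit 0x60)
 (Net.cons 4 (nat_lit 0x4)
 (Net.cons 2 (nat_lit 0x2)
 (Net.cons 1 (nat_lit 0x14)
 (Net.cons 2 (nat_lit 0x13)
 (Net.cons 4 (nat_lit 0xf0b)
 (Net.cons 8 (nat_lit 0x60)
 Net.nil)))))))

noncomputable def MuaH2_2_n_4 : Net :=
 (Net.cons 8 (nat_lit 0x90)
 (Net.cons 2 (nat_lit 0x22)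
 (Net.cons 1 (nat_lit 0x11)
 (Net.cons 2 (nat_lit 0x22)
 (Net.cons 4 (nat_lit 0xf06)
 (Net.cons 8 (nat_lit 0x90)
 Net.nil))))))

noncomputable def MuaH2_2_n : List Net := [Net.nil,
 MuaH2_2_n_1,
 Net.nil,
 MuaH2_2_n_3,
 MuaH2_2_n_4]

theorem MuaH2_2_n_ok : NetsOK 16 MuaH2_2_n := netsOK_of (by decide +kernel)

theorem MuaH2_2_n_rel : Rels (gp MuaH2_2_n) MuaH2_2_R := rels_of_relsB (k := 4) MuaH2_2_n_ok (by norm_num) (by decide +kernel)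

theorem MuaH2_2_fin : finB 16 MuaH2_2_n [1,3,4] 16 (runH 16 MuaH2_2_n (fun x p => ptInv (nth Net.nil MuaH2_2_n x) p) iv MuaH2_2_R [] ([].map fun x => [x]) 0 []
  [0,4,8,12,16,24,12,16]
  (defsH 16 MuaH2_2_n (ones 128) [1,3,4,3,4] (Nat.shiftLeft 1 0) 0)) = true := by decide +kernel

theorem MuaH2_2_idx : Idx.{u} iv (MuaH2_2_R ++ []) ([].map fun x => [x]) [1,3,4] 16 :=
  Reach.idx MuaH2_2_n_ok (reach_runH MuaH2_2_n_ok (fun x p _ => ptInv_gp MuaH2_2_n_ok x p) MuaH2_2_n_rel (reach_defsH MuaH2_2_n_ok _ _ _ _ _ _) _ _) MuaH2_2_fin (by norm_num)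

end Cfsg.Lib.Comp.Suz
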