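import Cfsg.Agent.Lib.Comp.Suz.MuaH0_0
import Cfsg.Agent.Lib.Comp.Suz.MuaH0_1
import Cfsg.Agent.Lib.Comp.Suz.MuaH0_2
import Cfsg.Agent.Lib.Comp.Suz.MuaH1_0
import Cfsg.Agent.Lib.Comp.Suz.MuaH1_1
import Cfsg.Agent.Lib.Comp.Suz.MuaH1_2
import Cfsg.Agent.Lib.Comp.Suz.MuaH1_3
import Cfsg.Agent.Lib.Comp.Suz.MuaH2_0
import Cfsg.Agent.Lib.Comp.Suz.MuaH2_1
import Cfsg.Agent.Lib.Comp.Suz.MuaH2_2
import Cfsg.Agent.Lib.Comp.Suz.Mua0
import Cfsg.Agent.Lib.Comp.Suz.Main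
import Cfsg.Agent.Lib.Comp.Cover

set_option maxRecDepth 100000

namespace Cfsg.Lib.Comp.Suz

universe u

theorem MuaX_rel : Rels (gp nets) MuaX := rels_of_relsB (k := 11) nets_ok (by norm_num) (by decide +kernel)

theorem MuaH0_2_ord : Ord.{u} iv MuaH0_2_R [1] 2 :=
  (MuaH0_2_idx.ord_base).of_cons (cons_of_subset (by decide +kernel))

theorem MuaH0_1_ord : Ord.{u} iv MuaH0_1_R [1,2] 10 :=
  (MuaH0_1_idx.ord_step MuaH0_2_ord).of_cons (cons_of_subset (by decide +kernel))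

theorem MuaH0_0_ord : Ord.{u} iv MuaH0_0_R [1,2,6] 60 :=
  (MuaH0_0_idx.ord_step MuaH0_1_ord).of_cons (cons_of_subset (by decide +kernel))

noncomputable def MuaH0_lb_n_1 : Net :=
 (Net.cons 1 (nat_lit 0x5)
 Net.nil)

noncomputable def MuaH0_lb_n_2 : Net :=
 (Net.cons 1 (nat_lit 0x1)
 (Net.cons 1 (nat_lit 0xa)
 (Net.cons 1 (nat_lit 0x1)
 Net.nil)))

noncomputable def MuaH0_lb_n_6 : Net :=
 (Net.cons 1 (nat_lit 0x2)
 (Net.cons 1 (nat_lit 0x5)
 (Net.cons 1 (nat_lit 0x2)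
 Net.nil)))

noncomputable def MuaH0_lb_n_64 : Net :=
 (Net.cons 1 (nat_lit 0x4)
 (Net.cons 1 (nat_lit 0x2)
 (Net.cons 1 (nat_lit 0x4)
 (Net.cons 1 (nat_lit 0x8)
 Net.nil))))

noncomputable def MuaH0_lb_n_66 : Net :=
 (Net.cons 1 (nat_lit 0x4)
 (Net.cons 1 (nat_lit 0xa)
 (Net.cons 1 (nat_lit 0x4)
 Net.nil)))

noncomputable def MuaH0_lb_n_67 : Net :=
 (Net.cons 1 (nat_lit 0x4)
 (Net.cons 1 (nat_lit 0x8)
 Net.nil))

noncomputable def MuaH0_lb_n : List Net := (apd [Net.nil,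
 MuaH0_lb_n_1,
 MuaH0_lb_n_2,
 Net.nil,
 Net.nil,
 Net.nil,
 MuaH0_lb_n_6,
 Net.nil,
 Net.nil,
 Net.nil,
 Net.nil,
 Net.nil,
 Net.nil,
 Net.nil,
 Net.nil,
 Net.nil,
 Net.nil,
 Net.nil,
 Net.nil,
 Net.nil,
 Net.nil,
 Net.nil,
 Net.nil,
 Net.nil,
 Net.nil,
 Net.nil,
 Net.nil,
 Net.nil,
 Net.nil,
 Net.nil,
 Net.nil,
 Net.nil,
 Net.nil,
 Net.nil,
 Net.nil,
 Net.nil,
 Net.nil,
 Net.nil,
 Net.nil,
 Net.nil]
 [Net.nil,
 Net.nil,
 Net.nil,
 Net.nil,
 Net.nil,
 Net.nil,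
 Net.nil,
 Net.nil,
 Net.nil,
 Net.nil,
 Net.nil,
 Net.nil,
 Net.nil,
 Net.nil,
 Net.nil,
 Net.nil,
 Net.nil,
 Net.nil,
 Net.nil,
 Net.nil,
 Net.nil,
 Net.nil,
 Net.nil,
 Net.nil,
 MuaH0_lb_n_64,
 Net.rev MuaH0_lb_n_64,
 MuaH0_lb_n_66,
 MuaH0_lb_n_67,
 Net.rev MuaH0_lb_n_67])

theorem MuaH0_lb_n_ok : NetsOK 5 MuaH0_lb_n := netsOK_of (by decide +kernel)

theorem MuaH0_lb : 60 ≤ Nat.card (cl (gp nets) [1,2,6]) :=
  lb_of_itwB (k := 3) (n := 5) nets_ok MuaH0_lb_n_ok (by norm_num) (by norm_num) (tbA_pt nets_ok) (tbA_pt MuaH0_lb_n_ok) (φ := look2 (nat_lit 0x69600697006980069a0067b) 20 64) (by decide +kernel) (by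
    rw [← cl_eq_of_slpB (k := 3) (D := [(64,[6,2]),
 (65,[2,6]),
 (66,[1,2,1]),
 (67,[65,66]),
 (68,[66,64])]) MuaH0_lb_n_ok (by norm_num) (by decide +kernel)]
    exact lb_of_chainB MuaH0_lb_n_ok (C := [([64,65,66,67,68],[1,6,2],0,0,5),
 ([67,68],[64,64,66],1,1,4),
 ([],[67,67],2,2,3)]) (by decide +kernel))

theorem MuaH1_3_ord : Ord.{u} iv MuaH1_3_R [1] 2 :=
  (MuaH1_3_idx.ord_base).of_cons (cons_of_subset (by decide +kernel))

theorem MuaH1_2_ord : Ord.{u} iv MuaH1_2_R [1,2] 10 :=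
  (MuaH1_2_idx.ord_step MuaH1_3_ord).of_cons (cons_of_subset (by decide +kernel))

theorem MuaH1_1_ord : Ord.{u} iv MuaH1_1_R [1,2,6] 60 :=
  (MuaH1_1_idx.ord_step MuaH1_2_ord).of_cons (cons_of_subset (by decide +kernel))

theorem MuaH1_0_ord : Ord.{u} iv MuaH1_0_R [1,2,6,7] 360 :=
  (MuaH1_0_idx.ord_step MuaH1_1_ord).of_cons (cons_of_subset (by decide +kernel))

noncomputable def MuaH1_lb_n_1 : Net :=
 (Net.cons 3 (nat_lit 0x6)
 (Net.cons 1 (nat_lit 0x8)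
 (Net.cons 1 (nat_lit 0x12)
 (Net.cons 1 (nat_lit 0x8)
 (Net.cons 3 (nat_lit 0x6)
 Net.nil)))))

noncomputable def MuaH1_lb_n_2 : Net :=
 (Net.cons 1 (nat_lit 0x8)
 (Net.cons 1 (nat_lit 0x12)
 (Net.cons 1 (nat_lit 0x8)
 Net.nil)))

noncomputable def MuaH1_lb_n_6 : Net :=
 (Net.cons 1 (nat_lit 0x1)
 (Net.cons 1 (nat_lit 0x10)
 Net.nil))

noncomputable def MuaH1_lb_n_7 : Net :=
 (Net.cons 3 (nat_lit 0x2)
 (Net.cons 1 (nat_lit 0x8)
 (Net.cons 1 (nat_lit 0x12)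
 (Net.cons 1 (nat_lit 0x8)
 (Net.cons 3 (nat_lit 0x2)
 Net.nil)))))

noncomputable def MuaH1_lb_n_64 : Net :=
 (Net.cons 3 (nat_lit 0x4)
 (Net.cons 1 (nat_lit 0x8)
 (Net.cons 1 (nat_lit 0x10)
 (Net.cons 1 (nat_lit 0x8)
 Net.nil))))

noncomputable def MuaH1_lb_n_66 : Net :=
 (Net.cons 1 (nat_lit 0x8)
 (Net.cons 1 (nat_lit 0x10)
 Net.nil))

noncomputable def MuaH1_lb_n : List Net := (apd [Net.nil,
 MuaH1_lb_n_1,
 MuaH1_lb_n_2,
 Net.nil,
 Net.nil,
 Net.nil,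
 MuaH1_lb_n_6,
 MuaH1_lb_n_7,
 Net.nil,
 Net.nil,
 Net.nil,
 Net.nil,
 Net.nil,
 Net.nil,
 Net.nil,
 Net.nil,
 Net.nil,
 Net.nil,
 Net.nil,
 Net.nil,
 Net.nil,
 Net.nil,
 Net.nil,
 Net.nil,
 Net.nil,
 Net.nil,
 Net.nil,
 Net.nil,
 Net.nil,
 Net.nil,
 Net.nil,
 Net.nil,
 Net.nil,
 Net.nil,
 Net.nil,
 Net.nil,
 Net.nil,
 Net.nil,
 Net.nil,
 Net.nil]
 [Net.nil,
 Net.nil,
 Net.nil,
 Net.nil,
 Net.nil,
 Net.nil,
 Net.nil,
 Net.nil,
 Net.nil,
 Net.nil,
 Net.nil,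
 Net.nil,
 Net.nil,
 Net.nil,
 Net.nil,
 Net.nil,
 Net.nil,
 Net.nil,
 Net.nil,
 Net.nil,
 Net.nil,
 Net.nil,
 Net.nil,
 Net.nil,
 MuaH1_lb_n_64,
 Net.rev MuaH1_lb_n_64,
 MuaH1_lb_n_66,
 Net.rev MuaH1_lb_n_66])

theorem MuaH1_lb_n_ok : NetsOK 6 MuaH1_lb_n := netsOK_of (by decide +kernel)

theorem MuaH1_lb : 360 ≤ Nat.card (cl (gp nets) [1,2,6,7]) :=
  lb_of_itwB (k := 3) (n := 6) nets_ok MuaH1_lb_n_ok (by norm_num) (by norm_num) (tbA_pt nets_ok) (tbA_pt MuaH1_lb_n_ok) (φ := look2 (nat_lit 0x68000bb000b7000b5000ba00001) 20 64) (by decide +kernel) (by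
    rw [← cl_eq_of_slpB (k := 3) (D := [(64,[2,1,2,1,7,2]),
 (65,[2,7,1,2,1,2]),
 (66,[1,65]),
 (67,[64,1])]) MuaH1_lb_n_ok (by norm_num) (by decide +kernel)]
    exact lb_of_chainB MuaH1_lb_n_ok (C := [([1,2,7,64,65,66,67],[6,2,1,7],0,0,6),
 ([1,7,64,65,66,67],[2,1,7],1,1,5),
 ([66,67],[1,7],2,2,4),
 ([],[66,66],3,3,3)]) (by decide +kernel))

theorem MuaH2_2_ord : Ord.{u} iv MuaH2_2_R [1,3,4] 16 :=
  (MuaH2_2_idx.ord_base).of_cons (cons_of_subset (by decide +kernel))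

theorem MuaH2_1_ord : Ord.{u} iv MuaH2_1_R [1,2,3,4] 2160 :=
  (MuaH2_1_idx.ord_step MuaH2_2_ord).of_cons (cons_of_subset (by decide +kernel))

theorem MuaH2_0_ord : Ord.{u} iv MuaH2_0_R [1,2,3,4,5] 604800 :=
  (MuaH2_0_idx.ord_step MuaH2_1_ord).of_cons (cons_of_subset (by decide +kernel))

noncomputable def MuaH2_lb_n_1 : Net :=
 (Net.cons 64 (nat_lit 0xffffff0000000000)
 (Net.cons 32 (nat_lit 0x6580520a0000000000000000)
 (Net.cons 16 (nat_lit 0x334200002aa40000000000000000)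
 (Net.cons 8 (nat_lit 0x2000900008002c0000000000980034)
 (Net.cons 4 (nat_lit 0x4040004000c0a00000000000808000c)
 (Net.cons 2 (nat_lit 0x200202000202000000000022000000)
 (Net.cons 1 (nat_lit 0x44400144444454000000000014000005)
 (Net.cons 2 (nat_lit 0x20200202000200010000000011303320)
 (Net.cons 4 (nat_lit 0x50d06050f0d0a0a000000000708000c)
 (Net.cons 8 (nat_lit 0x600900008002c0000000000980034)
 (Net.cons 16 (nat_lit 0xb34600006aac0000000000000000)
 (Net.cons 32 (nat_lit 0x65f7d20a0000000000000000)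
 (Net.cons 64 (nat_lit 0xffffff0000000000)
 Net.nil)))))))))))))

noncomputable def MuaH2_lb_n_2 : Net :=
 (Net.cons 64 (nat_lit 0x1c01f85f04e92000)
 (Net.cons 32 (nat_lit 0xec1df80000000000cf000000)
 (Net.cons 16 (nat_lit 0x8c0000005d5800008a000000e760)
 (Net.cons 8 (nat_lit 0xe400a00080004c008000a000a00000)
 (Net.cons 4 (nat_lit 0x402000808000000000000080a000408)
 (Net.cons 2 (nat_lit 0x220022000)
 (Net.cons 1 (nat_lit 0x10010000000000000000140441500)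
 (Net.cons 2 (nat_lit 0x10101003020011032100000223202331)
 (Net.cons 4 (nat_lit 0x40b040d0802050000000a080a0f0d08)
 (Net.cons 8 (nat_lit 0xe400fc00d900ec008000a000e20000)
 (Net.cons 16 (nat_lit 0xfc1500005d5800008a000000e760)
 (Net.cons 32 (nat_lit 0xfc1df80400000000cf000000)
 (Net.cons 64 (nat_lit 0x1c01f85f04e92000)
 Net.nil)))))))))))))

noncomputable def MuaH2_lb_n_3 : Net :=
 (Net.cons 64 (nat_lit 0x5908e2c5008c620)
 (Net.cons 32 (nat_lit 0xe7850088000000000d224000)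
 (Net.cons 16 (nat_lit 0xe8020000200000002a0200001140)
 (Net.cons 8 (nat_lit 0x8000400080000200200000003000b0)
 (Net.cons 4 (nat_lit 0x40c0c0e0402040c000c04000808020c)
 (Net.cons 2 (nat_lit 0x2022000200002002000020000000002)
 (Net.cons 1 (nat_lit 0x41014040401004514000140151405441)
 (Net.cons 2 (nat_lit 0x2122203200202302021020000000013)
 (Net.cons 4 (nat_lit 0x40c0c0e0d020c0c010c04000b080203)
 (Net.cons 8 (nat_lit 0x8200400080000200240008003000b0)
 (Net.cons 16 (nat_lit 0xe8020000200000002a0200001140)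
 (Net.cons 32 (nat_lit 0xe7850088000000000d224000)
 (Net.cons 64 (nat_lit 0x5908e2c5008c620)
 Net.nil)))))))))))))

noncomputable def MuaH2_lb_n_4 : Net :=
 (Net.cons 64 (nat_lit 0xc400383a0dbd7600)
 (Net.cons 32 (nat_lit 0x1d04301400000000958361d8)
 (Net.cons 16 (nat_lit 0x9028000085600000e9e20000e240)
 (Net.cons 8 (nat_lit 0x20009200400046000e008800b0001a)
 (Net.cons 4 (nat_lit 0xc000208060202080206000800040400)
 (Net.cons 2 (nat_lit 0x202000200000000000002000)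
 (Net.cons 1 (nat_lit 0x50041004401154154150055510044540)
 (Net.cons 2 (nat_lit 0x1000200010230023331233030012022)
 (Net.cons 4 (nat_lit 0xc000209060302090d060008090d0401)
 (Net.cons 8 (nat_lit 0x20009200c20046000e0088006b001a)
 (Net.cons 16 (nat_lit 0x90280000e3d90000e9e20000e2a4)
 (Net.cons 32 (nat_lit 0x1d04301400000000958361d8)
 (Net.cons 64 (nat_lit 0xc400383a0dbd7600)
 Net.nil)))))))))))))

noncomputable def MuaH2_lb_n_5 : Net :=
 (Net.cons 64 (nat_lit 0xef038ff821d0082)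
 (Net.cons 32 (nat_lit 0x9530281000000000fe00a000)
 (Net.cons 16 (nat_lit 0xa8140000464c0000ff0000000012)
 (Net.cons 8 (nat_lit 0xc0001000b000c6008a003800200034)
 (Net.cons 4 (nat_lit 0x80408020206080c0008000204020008)
 (Net.cons 2 (nat_lit 0x2020022000002000000000200000)
 (Net.cons 1 (nat_lit 0x45001041544000554505451510415500)
 (Net.cons 2 (nat_lit 0x3102020022113032003000301310313)
 (Net.cons 4 (nat_lit 0x80408020206080c00080c020405000d)
 (Net.cons 8 (nat_lit 0xe0009000b000c6008a003800a00034)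
 (Net.cons 16 (nat_lit 0xb81400006e4c0000ff000000001a)
 (Net.cons 32 (nat_lit 0x9530281800000000fe00a000)
 (Net.cons 64 (nat_lit 0xef038ff821d0082)
 Net.nil)))))))))))))

noncomputable def MuaH2_lb_n_64 : Net :=
 (Net.cons 32 (nat_lit 0xfb658462000000005fb28278)
 (Net.cons 16 (nat_lit 0xf9000000441e0000241c00005518)
 (Net.cons 8 (nat_lit 0x8200100040000c0014000600800002)
 (Net.cons 4 (nat_lit 0x80008000c0a0a02040c0206040204)
 (Net.cons 2 (nat_lit 0x22002002020020000002020000200)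
 (Net.cons 1 (nat_lit 0x14044001411111001411041401414)
 (Net.cons 2 (nat_lit 0x12122002220032312132220303102)
 (Net.cons 4 (nat_lit 0xa080b0008080a0e0a070603070502)
 (Net.cons 8 (nat_lit 0x82003500400005009b00320080009c)
 (Net.cons 16 (nat_lit 0x7961000044040000b3f30000b9de)
 (Net.cons 32 (nat_lit 0xfb6584680000000025bdb1da)
 Net.nil)))))))))))

noncomputable def MuaH2_lb_n_66 : Net :=
 (Net.cons 32 (nat_lit 0x9475a0800000000bc3918a8)
 (Net.cons 16 (nat_lit 0x430a000056080000f0740000153a)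
 (Net.cons 8 (nat_lit 0x46001c000800c8000e00e800a200c2)
 (Net.cons 4 (nat_lit 0x804000a040006040208080004000400)
 (Net.cons 2 (nat_lit 0x20002000020000000002000000)
 (Net.cons 1 (nat_lit 0x40010010401041441054040114000450)
 (Net.cons 2 (nat_lit 0x10100202023033301320110312330)
 (Net.cons 4 (nat_lit 0xc04000a0c000a040b0408080b00080c)
 (Net.cons 8 (nat_lit 0x4e001d0008003f00e3002f0008000e)
 (Net.cons 16 (nat_lit 0x43090000f2300000ff2000005db8)
 (Net.cons 32 (nat_lit 0x9475a0b000000008f4388bc)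
 Net.nil)))))))))))

noncomputable def MuaH2_lb_n_68 : Net :=
 (Net.cons 32 (nat_lit 0xfffff00000000000fffdef7c)
 (Net.cons 16 (nat_lit 0xfa00000000000000cee600008926)
 (Net.cons 8 (nat_lit 0xe800f2000000f800c0000800940026)
 (Net.cons 4 (nat_lit 0x6040000000002000204040c080a0006)
 (Net.cons 2 (nat_lit 0x200000000000020002020002200202)
 (Net.cons 1 (nat_lit 0x45110014000054015051145154154144)
 (Net.cons 2 (nat_lit 0x2100030000012013201013211310330)
 (Net.cons 4 (nat_lit 0x601000b000005000c0c0d05070a0a0a)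
 (Net.cons 8 (nat_lit 0xec00f8000000fc00be00d700a80016)
 (Net.cons 16 (nat_lit 0xa0a000000000000d75200009c0e)
 (Net.cons 32 (nat_lit 0xfffff00000000000efffdfec)
 Net.nil)))))))))))

noncomputable def MuaH2_lb_n_70 : Net :=
 (Net.cons 32 (nat_lit 0xfffff000000000007abf7994)
 (Net.cons 16 (nat_lit 0xa0140000000000000eca00002856)
 (Net.cons 8 (nat_lit 0xc00500000003000a000e200e20050)
 (Net.cons 4 (nat_lit 0xc0a000a00000a00080e020602020200)
 (Net.cons 2 (nat_lit 0x200020000000020202200202220002)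
 (Net.cons 1 (nat_lit 0x41451040000001044401105401115054)
 (Net.cons 2 (nat_lit 0x12222010000021010032231311200012)
 (Net.cons 4 (nat_lit 0x70a000f0000090c0100000f0a050906)
 (Net.cons 8 (nat_lit 0x2700500000003d004100bb0027000c)
 (Net.cons 16 (nat_lit 0xc013000000000000736700007ce2)
 (Net.cons 32 (nat_lit 0xfffff00000000000b2feeed0)
 Net.nil)))))))))))

noncomputable def MuaH2_lb_n_72 : Net :=
 (Net.cons 32 (nat_lit 0xc000000000000000b7000000)
 (Net.cons 16 (nat_lit 0xc000000080000000000000000000)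
 (Net.cons 8 (nat_lit 0xc0000200e00000002400700000)
 (Net.cons 4 (nat_lit 0xa0002040802020a00000a0008)
 (Net.cons 2 (nat_lit 0x20202000020000020222022020)
 (Net.cons 1 (nat_lit 0x44144551144545115111514010)
 (Net.cons 2 (nat_lit 0x1031103333232312111310000)
 (Net.cons 4 (nat_lit 0x60905080809090d08090c0008)
 (Net.cons 8 (nat_lit 0xc0000100d00081009100a80000)
 (Net.cons 16 (nat_lit 0xc000000080000000800100000000)
 (Net.cons 32 (nat_lit 0xc000000000000000da800000)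
 Net.nil)))))))))))

noncomputable def MuaH2_lb_n : List Net := (apd [Net.nil,
 MuaH2_lb_n_1,
 MuaH2_lb_n_2,
 MuaH2_lb_n_3,
 MuaH2_lb_n_4,
 MuaH2_lb_n_5,
 Net.nil,
 Net.nil,
 Net.nil,
 Net.nil,
 Net.nil,
 Net.nil,
 Net.nil,
 Net.nil,
 Net.nil,
 Net.nil,
 Net.nil,
 Net.nil,
 Net.nil,
 Net.nil,
 Net.nil,
 Net.nil,
 Net.nil,
 Net.nil,
 Net.nil,
 Net.nil,
 Net.nil,
 Net.nil,
 Net.nil,
 Net.nil,
 Net.nil,
 Net.nil,
 Net.nil,
 Net.nil,
 Net.nil,
 Net.nil,
 Net.nil,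
 Net.nil,
 Net.nil,
 Net.nil]
 [Net.nil,
 Net.nil,
 Net.nil,
 Net.nil,
 Net.nil,
 Net.nil,
 Net.nil,
 Net.nil,
 Net.nil,
 Net.nil,
 Net.nil,
 Net.nil,
 Net.nil,
 Net.nil,
 Net.nil,
 Net.nil,
 Net.nil,
 Net.nil,
 Net.nil,
 Net.nil,
 Net.nil,
 Net.nil,
 Net.nil,
 Net.nil,
 MuaH2_lb_n_64,
 Net.rev MuaH2_lb_n_64,
 MuaH2_lb_n_66,
 Net.rev MuaH2_lb_n_66,
 MuaH2_lb_n_68,
 Net.rev MuaH2_lb_n_68,
 MuaH2_lb_n_70,
 Net.rev MuaH2_lb_n_70,
 MuaH2_lb_n_72,
 Net.rev MuaH2_lb_n_72])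

theorem MuaH2_lb_n_ok : NetsOK 128 MuaH2_lb_n := netsOK_of (by decide +kernel)

theorem MuaH2_lb : 604800 ≤ Nat.card (cl (gp nets) [1,2,3,4,5]) :=
  lb_of_itwB (k := 7) (n := 100) nets_ok MuaH2_lb_n_ok (by norm_num) (by norm_num) (tbA_pt nets_ok) (tbA_pt MuaH2_lb_n_ok) (φ := look2 (nat_lit 0x450002c000160004b0004d00012000560003a00022000520001c0003d000070000f0000600060000510001a0000c0001d000090000d0000a000170002f0002e0000e00064000230005700059000250005d000040001100003000190000b0001f000400002800041000620001b0003e000460003700014000320003100026000550003900042000440003b0002000047000380002a00063000580005e000650005f000240005c000290005a000360002b0001500054000430002100008000180001e000610003c0005300050000130004e0003500027000330004f000340005b000490004c00030000050004a00010000480003f0002d00002) 20 64) (by decide +kernel) (by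
    rw [← cl_eq_of_slpB (k := 7) (D := [(64,[1,3,2,4,3,5,4,5,2,1,2,3,2]),
 (65,[2,3,2,1,2,5,4,5,3,4,2,3,1]),
 (66,[5,4,3,4,1,2]),
 (67,[2,1,4,3,4,5]),
 (68,[66,65,67,65,66,65]),
 (69,[64,67,64,66,64,67]),
 (70,[64,67,67,65,66,66,66]),
 (71,[67,67,67,64,66,66,65]),
 (72,[68,71,68,71,69]),
 (73,[68,70,69,70,69])]) MuaH2_lb_n_ok (by norm_num) (by decide +kernel)]
    exact lb_of_chainB MuaH2_lb_n_ok (C := [([64,65,66,67,68,69,70,71,72,73],[1,3,4,5,64,66,68,4,1],0,0,100),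
 ([68,69,70,71,72,73],[64,66,64,68,70,66,64,66],1,1,63),
 ([72,73],[68,70,68,70,68,70,68],2,2,32),
 ([],[72,72],3,3,3)]) (by decide +kernel))

theorem Mua_mb : MB (cl (gp nets) L) 4 2 :=
  mb_cyc (w := 13) (n := 36) (La := L) (ix := nth 0 [0,0,1,2,3,4,5,6]) (by norm_num) (by norm_num) (nets_iv.sval _) ((nets_rel.append MuaX_rel).sval fun r hr x hx => mem_cl (sub_of_allR (by decide +kernel) r hr x hx)) (by decide +kernel)
    (TStep.trans (TStep.trans (TStep.trans (TStep.trans (TStep.trans (TStep.trans (TStep.trans (TStep.trans (TStep.trans (TStep.trans (TStep.trans (TStep.trans (TStep.repar (k' := 29) (by norm_num) (by norm_num) (by decide +kernel) (by decide +kernel) Mua1_b)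
    (TStep.enum0 (by norm_num) (by norm_num) Mua2_0 (Gs := Mua2G) (by decide +kernel)))
    (TStep.repar (k' := 9) (by norm_num) (by norm_num) (by decide +kernel) (by decide +kernel) Mua3_b))
    (TStep.enum0 (by norm_num) (by norm_num) Mua4_0 (Gs := Mua4G) (by decide +kernel)))
    (TStep.repar (k' := 5) (by norm_num) (by norm_num) (by decide +kernel) (by decide +kernel) Mua5_b))
    (TStep.repar (k' := 5) (by norm_num) (by norm_num) (by decide +kernel) (by decide +kernel) Mua6_b))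
    (TStep.enum (by norm_num) (by norm_num) Mua7_0 (I := [0,1,5,7,11,16,34]) (by decide +kernel) (by decide +kernel) MuaH0_0_ord (c := 1) (lb_sval (fun _ hx => mem_cl (sub_of_subB (by decide +kernel) _ hx)) MuaH0_lb (by norm_num)) (Gs := Mua7G) (by decide +kernel)))
    (TStep.repar (k' := 3) (by norm_num) (by norm_num) (by decide +kernel) (by decide +kernel) Mua8_b))
    (TStep.repar (k' := 3) (by norm_num) (by norm_num) (by decide +kernel) (by decide +kernel) Mua9_b))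
    (TStep.enum (by norm_num) (by norm_num) Mua10_0 (I := [0,1,5,6,7,11,12,16,17,27,29,31,34,35]) (by decide +kernel) (by decide +kernel) MuaH1_0_ord (c := 1) (lb_sval (fun _ hx => mem_cl (sub_of_subB (by decide +kernel) _ hx)) MuaH1_lb (by norm_num)) (Gs := Mua10G) (by decide +kernel)))
    (TStep.repar (k' := 2) (by norm_num) (by norm_num) (by decide +kernel) (by decide +kernel) Mua11_b))
    (TStep.repar (k' := 2) (by norm_num) (by norm_num) (by decide +kernel) (by decide +kernel) Mua12_b))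
    (TStep.cons (by norm_num) (by norm_num) (c := (nat_lit 0x1)) (v := 2) (by decide +kernel) (by decide +kernel)))
    (by norm_num) List.mem_cons_self (by norm_num)
    (TStep.trans (TStep.trans (TStep.repar (k' := 1) (by norm_num) (by norm_num) (by decide +kernel) (by decide +kernel) Mua14_b)
    (TStep.enum (by norm_num) (by norm_num) Mua15_0 (I := [0,1,2,3,4,7,8,9,10,13,14,15,18,19,22,28,32,33]) (by decide +kernel) (by decide +kernel) MuaH2_0_ord (c := 1) (lb_sval (fun _ hx => mem_cl (sub_of_subB (by decide +kernel) _ hx)) MuaH2_lb (by norm_num)) (Gs := Mua15G) (by decide +kernel)))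
    (TStep.repar (k' := 0) (by norm_num) (by norm_num) (by decide +kernel) (by decide +kernel) Mua16_b))
    (L := [1,2,3,4,5,6,7]) (I := [0,1,2,3,4,5,6,7,8,9,10,11,12,13,14,15,16,17,18,19,20,21,22,23,24,25,26,27,28,29,30,31,32,33,34,35]) (by decide +kernel) (by decide +kernel) ord card.ge (cl_sval_top _ _)

end Cfsg.Lib.Comp.Suz
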