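import Cfsg.Agent.Lib.Comp.Suz.MubH0_0
import Cfsg.Agent.Lib.Comp.Suz.MubH0_1
import Cfsg.Agent.Lib.Comp.Suz.Mub0
import Cfsg.Agent.Lib.Comp.Suz.Main
import Cfsg.Agent.Lib.Comp.Cover

set_option maxRecDepth 100000

namespace Cfsg.Lib.Comp.Suz

universe u

theorem MubH0_1_ord : Ord.{u} iv MubH0_1_R [1,3,4] 16 :=
  (MubH0_1_idx.ord_base).of_cons (cons_of_subset (by decide +kernel))

theorem MubH0_0_ord : Ord.{u} iv MubH0_0_R [1,2,3,4] 2160 :=
  (MubH0_0_idx.ord_step MubH0_1_ord).of_cons (cons_of_subset (by decide +kernel))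

noncomputable def MubH0_lb_n_1 : Net :=
 (Net.cons 48 (nat_lit 0x290797da4480)
 (Net.cons 24 (nat_lit 0x2b7a0e00000046130e)
 (Net.cons 12 (nat_lit 0x494000614000380000028)
 (Net.cons 6 (nat_lit 0x3603e002000010004004)
 (Net.cons 3 (nat_lit 0x2080084100006004000)
 (Net.cons 1 (nat_lit 0x208008200209040009208208)
 (Net.cons 1 (nat_lit 0x480080010090010010012)
 (Net.cons 1 (nat_lit 0x8040008008008)
 (Net.cons 3 (nat_lit 0x4046087084180006006000)
 (Net.cons 6 (nat_lit 0x1a03603e00200c010004004)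
 (Net.cons 12 (nat_lit 0x4940006540003820000ed)
 (Net.cons 24 (nat_lit 0x2b7a0e00000046130e)
 (Net.cons 48 (nat_lit 0x290797da4480)
 Net.nil)))))))))))))

noncomputable def MubH0_lb_n_2 : Net :=
 (Net.cons 48 (nat_lit 0x30baa0f1984)
 (Net.cons 24 (nat_lit 0x975240000000903044)
 (Net.cons 12 (nat_lit 0x5cc000120000f9a000120)
 (Net.cons 6 (nat_lit 0x801e030038020034000000)
 (Net.cons 3 (nat_lit 0x6180000006084000004100)
 (Net.cons 1 (nat_lit 0x1200000201040001000049)
 (Net.cons 1 (nat_lit 0x490480480412092492482480)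
 (Net.cons 1 (nat_lit 0x40000208008008000040)
 (Net.cons 3 (nat_lit 0x460451800010c5007004100)
 (Net.cons 6 (nat_lit 0xe01e03003803d034000000)
 (Net.cons 12 (nat_lit 0x5cc000120000f9a000124)
 (Net.cons 24 (nat_lit 0x9752400000009230c4)
 (Net.cons 48 (nat_lit 0x30baa0f1984)
 Net.nil)))))))))))))

noncomputable def MubH0_lb_n_3 : Net :=
 (Net.cons 48 (nat_lit 0x404d45948600)
 (Net.cons 24 (nat_lit 0x526e40000000857010)
 (Net.cons 12 (nat_lit 0x13000003c000800000308)
 (Net.cons 6 (nat_lit 0x1400000801800c00c)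
 (Net.cons 3 (nat_lit 0x100100000002080006006002)
 (Net.cons 1 (nat_lit 0x9200048049208009048009)
 (Net.cons 1 (nat_lit 0x412090480082000090010082)
 (Net.cons 1 (nat_lit 0x9000040041000008000041)
 (Net.cons 3 (nat_lit 0x100100000002084046047003)
 (Net.cons 6 (nat_lit 0x401403000803802701b)
 (Net.cons 12 (nat_lit 0x1320002bc0008020000ca)
 (Net.cons 24 (nat_lit 0x526e40000000857010)
 (Net.cons 48 (nat_lit 0x404d45948600)
 Net.nil)))))))))))))

noncomputable def MubH0_lb_n_4 : Net :=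
 (Net.cons 48 (nat_lit 0xd972038982d0)
 (Net.cons 24 (nat_lit 0x7404e40000001eaf8c)
 (Net.cons 12 (nat_lit 0x234000400000516000694)
 (Net.cons 6 (nat_lit 0x1003800400801000c028030)
 (Net.cons 3 (nat_lit 0x84004002080102084082006)
 (Net.cons 1 (nat_lit 0x208001009200241041041208)
 (Net.cons 1 (nat_lit 0x492402082492412490412002)
 (Net.cons 1 (nat_lit 0x208200001001008240008000)
 (Net.cons 3 (nat_lit 0x1020c70021c51c51c4085006)
 (Net.cons 6 (nat_lit 0x2f00703403700e004030035)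
 (Net.cons 12 (nat_lit 0x6b400040000079a000694)
 (Net.cons 24 (nat_lit 0x7404e40000001a29bc)
 (Net.cons 48 (nat_lit 0xd972038982d0)
 Net.nil)))))))))))))

noncomputable def MubH0_lb_n_64 : Net :=
 (Net.cons 24 (nat_lit 0xa00000000000188000)
 (Net.cons 12 (nat_lit 0xb00000dc0000140000fc8)
 (Net.cons 6 (nat_lit 0x3c028030000028004028000)
 (Net.cons 3 (nat_lit 0x180080004000086000100100)
 (Net.cons 1 (nat_lit 0x200041008048248009049200)
 (Net.cons 1 (nat_lit 0x480012492090092412480492)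
 (Net.cons 1 (nat_lit 0x200008001048041009200040)
 (Net.cons 3 (nat_lit 0x1850870030820810000c40c6)
 (Net.cons 6 (nat_lit 0x3c028030000028004028000)
 (Net.cons 12 (nat_lit 0xb00000dc0000140000fc8)
 (Net.cons 24 (nat_lit 0xa00000000000188000)
 Net.nil)))))))))))

noncomputable def MubH0_lb_n_65 : Net :=
 (Net.cons 24 (nat_lit 0x5c0000000000000002)
 (Net.cons 12 (nat_lit 0xec0000b40000000000800)
 (Net.cons 6 (nat_lit 0x1801200c000000000026016)
 (Net.cons 3 (nat_lit 0x180104002000182000102180)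
 (Net.cons 1 (nat_lit 0x209041241201249001041240)
 (Net.cons 1 (nat_lit 0x492412492412410000412412)
 (Net.cons 1 (nat_lit 0x49008248201208000200200)
 (Net.cons 3 (nat_lit 0x471031450801820001c0182)
 (Net.cons 6 (nat_lit 0x1801202d000000000013036)
 (Net.cons 12 (nat_lit 0xfd0000b400000000005f8)
 (Net.cons 24 (nat_lit 0x5c0000000000000002)
 Net.nil)))))))))))

noncomputable def MubH0_lb_n_66 : Net :=
 (Net.cons 24 (nat_lit 0x400000000000d00000)
 (Net.cons 12 (nat_lit 0x4000008000006000001a0)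
 (Net.cons 6 (nat_lit 0x401003c00000001800402c)
 (Net.cons 3 (nat_lit 0x100000184004002002000006)
 (Net.cons 1 (nat_lit 0x208249248201009208)
 (Net.cons 1 (nat_lit 0x400080492010000080492482)
 (Net.cons 1 (nat_lit 0x48008000000009040)
 (Net.cons 3 (nat_lit 0x1030470440041060020471c6)
 (Net.cons 6 (nat_lit 0x401003c00000001800402c)
 (Net.cons 12 (nat_lit 0x4000008000006000001a0)
 (Net.cons 24 (nat_lit 0x400000000000d00000)
 Net.nil)))))))))))

noncomputable def MubH0_lb_n : List Net := (apd [Net.nil,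
 MubH0_lb_n_1,
 MubH0_lb_n_2,
 MubH0_lb_n_3,
 MubH0_lb_n_4,
 Net.nil,
 Net.nil,
 Net.nil,
 Net.nil,
 Net.nil,
 Net.nil,
 Net.nil,
 Net.nil,
 Net.nil,
 Net.nil,
 Net.nil,
 Net.nil,
 Net.nil,
 Net.nil,
 Net.nil,
 Net.nil,
 Net.nil,
 Net.nil,
 Net.nil,
 Net.nil,
 Net.nil,
 Net.nil,
 Net.nil,
 Net.nil,
 Net.nil,
 Net.nil,
 Net.nil,
 Net.nil,
 Net.nil,
 Net.nil,
 Net.nil,
 Net.nil,
 Net.nil,
 Net.nil,
 Net.nil]
 [Net.nil,
 Net.nil,
 Net.nil,
 Net.nil,
 Net.nil,
 Net.nil,
 Net.nil,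
 Net.nil,
 Net.nil,
 Net.nil,
 Net.nil,
 Net.nil,
 Net.nil,
 Net.nil,
 Net.nil,
 Net.nil,
 Net.nil,
 Net.nil,
 Net.nil,
 Net.nil,
 Net.nil,
 Net.nil,
 Net.nil,
 Net.nil,
 MubH0_lb_n_64,
 MubH0_lb_n_65,
 MubH0_lb_n_66])

theorem MubH0_lb_n_ok : NetsOK 96 MubH0_lb_n := netsOK_of (by decide +kernel)

theorem MubH0_lb : 2160 ≤ Nat.card (cl (gp nets) [1,2,3,4]) :=
  lb_of_itwB (k := 7) (n := 90) nets_ok MubH0_lb_n_ok (by norm_num) (by norm_num) (tbA_pt nets_ok) (tbA_pt MubH0_lb_n_ok) (φ := look2 (nat_lit 0x5f0003e0003b0002b0001900047000630002100055000610001e000140001f000650001800062000540003c0005e000150004600039000200002a00022000160002c0005600045000640003a000600001d0005d0003d00017000590002f000520000a0004b000060004d000070002e000570005100009000080005800005000530004c0002d000250001c0000d0001b0000b00024000230000c0001a000040000300050000350005c000320004a000440004100038000340003600040000490004f0005a00042000300004300031000370005b0004e00033000480003f00002) 20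 64) (by decide +kernel) (by
    rw [← cl_eq_of_slpB (k := 7) (D := [(64,[1,4,2,4,1]),
 (65,[2,3,2,1,2,4,3,4,2,1,2,3,2]),
 (66,[3,2,4,3,2,3,4,2,3,1])]) MubH0_lb_n_ok (by norm_num) (by decide +kernel)]
    exact lb_of_chainB MubH0_lb_n_ok (C := [([64,65,66],[1,3,4,65,64,1,4,65,4,1],0,0,90),
 ([],[64,65,66,64,65],1,1,24)]) (by decide +kernel))

theorem Mub_mb : MB (cl (gp nets) L) 45045 3 :=
  mb_cyc (w := 39) (n := 33) (La := L) (ix := nth 0 [0,0,1,2,3,4,5,6]) (by norm_num) (by norm_num) (nets_iv.sval _) (nets_rel.sval fun r hr x hx => mem_cl (sub_of_allR (by decide +kernel) r hr x hx)) (by decide +kernel)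
    (TStep.trans (TStep.trans (TStep.trans (TStep.trans (TStep.trans (TStep.trans (TStep.trans (TStep.repar (k' := 26) (by norm_num) (by norm_num) (by decide +kernel) (by decide +kernel) Mub1_b)
    (TStep.enum0 (by norm_num) (by norm_num) Mub2_0 (Gs := Mub2G) (by decide +kernel)))
    (TStep.repar (k' := 3) (by norm_num) (by norm_num) (by decide +kernel) (by decide +kernel) Mub3_b))
    (TStep.enum0 (by norm_num) (by norm_num) Mub4_0 (Gs := Mub4G) (by decide +kernel)))
    (TStep.repar (k' := 2) (by norm_num) (by norm_num) (by decide +kernel) (by decide +kernel) Mub5_b))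
    (TStep.enum (by norm_num) (by norm_num) Mub6_0 (I := [0,1,2,3,7,8,9,13,14,18,28]) (by decide +kernel) (by decide +kernel) MubH0_0_ord (c := 1) (lb_sval (fun _ hx => mem_cl (sub_of_subB (by decide +kernel) _ hx)) MubH0_lb (by norm_num)) (Gs := Mub6G) (by decide +kernel)))
    (TStep.repar (k' := 1) (by norm_num) (by norm_num) (by decide +kernel) (by decide +kernel) Mub7_b))
    (TStep.cons (by norm_num) (by norm_num) (c := (nat_lit 0x1)) (v := 3) (by decide +kernel) (by decide +kernel)))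
    (by norm_num) List.mem_cons_self (by norm_num)
    (TStep.repar (k' := 0) (by norm_num) (by norm_num) (by decide +kernel) (by decide +kernel) Mub9_b)
    (L := [1,2,3,4,5,6,7]) (I := [0,1,2,3,4,5,6,7,8,9,10,11,12,13,14,15,16,17,18,19,20,21,22,23,24,25,26,27,28,29,30,31,32]) (by decide +kernel) (by decide +kernel) ord card.ge (cl_sval_top _ _)

end Cfsg.Lib.Comp.Suz
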