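import Cfsg.Agent.Lib.Comp.Suz.T0
import Cfsg.Agent.Lib.Comp.Suz.T1
import Cfsg.Agent.Lib.Comp.Suz.T2
import Cfsg.Agent.Lib.Comp.Suz.T3
import Cfsg.Agent.Lib.Comp.Suz.T4

set_option maxRecDepth 100000

namespace Cfsg.Lib.Comp.Suz

universe u

theorem ord4 : Ord.{u} iv T4_R [1,3,4] 16 :=
  (T4_idx.ord_base).of_cons (cons_of_subset (by decide +kernel))

theorem ord3 : Ord.{u} iv T3_R [1,2,3,4] 2160 :=
  (T3_idx.ord_step ord4).of_cons (cons_of_subset (by decide +kernel))

theorem ord2 : Ord.{u} iv T2_R [1,2,3,4,5] 604800 :=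
  (T2_idx.ord_step ord3).of_cons (cons_of_subset (by decide +kernel))

theorem ord1 : Ord.{u} iv T1_R [1,2,3,4,5,6] 251596800 :=
  (T1_idx.ord_step ord2).of_cons (cons_of_subset (by decide +kernel))

theorem ord0 : Ord.{u} iv T0_R [1,2,3,4,5,6,7] 448345497600 :=
  (T0_idx.ord_step ord1).of_cons (cons_of_subset (by decide +kernel))

theorem ord : Ord.{u} iv R L 448345497600 := ord0.of_cons (cons_of_subset (by decide +kernel))

end Cfsg.Lib.Comp.Suz
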