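import Cfsg.Agent.Lib.Comp.Suz.Main
import Cfsg.Agent.Lib.Comp.Subst2
import Cfsg.Agent.Lib.Comp.G24x.Main

set_option maxRecDepth 100000
set_option Elab.async false

namespace Cfsg.Lib.Comp.Suz

noncomputable def ch : List Lev := [([1,2,3,4,5,6,64,65,66,67,68,69],[7,2,64,66,1,3,6,4,64,66,2,7,6,64,2,5,7,2,6],0,0,1782),
 ([1,2,3,4,5,64,65,66,67,68,69],[6,2,64,66,1,3,4,64,2,6,64,1,2,1],1,1,416),
 ([5,64,65,66,67,68,69],[1,3,4,64,3,2,4,5,66,64,68,4,66,2],417,417,1050),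
 ([68,69],[5,64,66,5,64,66,68,64,5,66,66],1467,1467,192),
 ([],[68,68],1468,1468,3)]

noncomputable def M : List ℕ := L ++ slp.map (·.1)

theorem cl_M : cl (gp nets) M = cl (gp nets) L := cl_eq_of_slpB nets_ok (by norm_num) slp_ok

theorem mem_M {x : ℕ} (h : x ∈ M) : gp nets x ∈ cl (gp nets) L := cl_M ▸ mem_cl h

theorem exact_ch : Exact nets ch M := exact_of_beq (cl_M ▸ card.le) (by decide +kernel)

theorem base : IsBase (cl (gp nets) L) [0,1,417,1467,1468] := cl_M ▸ exact_ch.isBase nets_ok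

noncomputable def tb0 : ℕ → ℕ → ℕ := tbx 2048 (tbk 11 4 prs11 nets 256)

theorem tb0_ok : TbA nets tb0 := tbA_tbx nets_ok (tbk_eq tr11 (by norm_num) (by norm_num) (by norm_num) nets_ok)

noncomputable def g24V : List (List ℕ) := [[],
 [1,3,6],
 [1],
 [69,5,4,3,4,5,68],
 [69,5,68,65,69,4,5,65,1,6,64,6,64],
 [67,5,1,4,65,3,65,6,64,1,4,69],
 [68,5,64,67,64,2,65,2,4,6,2,65,2,4],
 [68,5,67,1,4,3,4,5,67],
 [1,6]]

theorem g24_sub : allL g24V (fun w => subB w M) = true := by decide +kernel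

theorem g24_iv : sivP tb0 [0,1,417,1467,1468] g24V G24x.iv = true := by decide +kernel

theorem g24_rel : srelP tb0 [0,1,417,1467,1468] g24V G24x.R = true := by decide +kernel

theorem g24_ne : ∃ p ∈ [0,1,417,1467,1468], Nat.beq (wap tb0 (nth [] g24V 1) p) p = false := by decide +kernel

theorem g24_le : cl (sv (gp nets) g24V) G24x.L ≤ cl (gp nets) L := cl_le.2 fun x _ => sv_mem (fun _ => mem_M) g24_sub x

theorem g24_iso : Nonempty (cl (gp G24x.nets) G24x.L ≃* cl (sv (gp nets) g24V) G24x.L) := by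
  obtain ⟨p, -, hp⟩ := g24_ne
  obtain ⟨e, -⟩ := embed_of_rels G24x.simple G24x.nets_iv G24x.nets_rel G24x.ord G24x.lb
    (siv base tb0_ok (fun _ => mem_M) g24_sub g24_iv) (srels base tb0_ok (fun _ => mem_M) g24_sub g24_rel) (x := 1) (by decide)
    (sv_ne tb0_ok hp)
  exact ⟨e⟩

theorem g24_fix : ∀ s ∈ cl (sv (gp nets) g24V) G24x.L, s 0 = 0 := sv_fix tb0_ok (by decide +kernel) _

end Cfsg.Lib.Comp.Suz
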