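import Cfsg.Agent.Lib.Comp.Suz.U6

set_option maxRecDepth 100000
set_option Elab.async false

namespace Cfsg.Lib.Comp.Suz

universe u

theorem U_fin : finB 24576 U_n [1,2,3,4,5,6,7] 22880 (runH 24576 U_n (tbk 15 4 prs15 U_n 1024) iv U_R [] ([1,2,3,4,6,7].map fun x => [x]) 0 []
  (apd [56,60,64,68,76,80,84,92,96,100,104,108,112,116,0,20,24,28,32,36,40,44,48,52,56,60,64,68,76,80,84,88,92,96,100,104,108,112,116,0,12,20,24,28,32,36,40,44,48,52,56,60,64,68,76,80,84,88,92,96]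
 (apd [100,104,108,112,116,0,20,24,28,32,36,40,44,48,52,56,60,64,68,76,80,84,88,92,96,100,104,112,116,0,8,20,24,28,32,36,40,44,48,52,56,60,64,68,76,80,84,88,92,96,100,104,108,112,116,0,8,12,20,24]
 (apd [28,32,36,40,44,48,52,56,60,64,68,76,80,84,88,92,96,100,104,108,112,116,0,8,12,20,24,28,32,36,40,44,48,52,56,60,64,68,76,80,84,88,92,96,100,104,108,112,116,0,8,12,20,24,28,32,36,40,44,48]
 (apd [52,56,60,64,68,76,80,84,88,92,96,100,104,108,112,116,0,8,12,20,24,28,32,36,40,44,48,52,56,60,64,68,76,80,84,88,92,96,100,104,108,112,116,0,8,20,24,28,32,36,40,44,48,52,56,60,64,68,76,80]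
 [84,88,92,96,100,104,108,112,116,0,8,12,20,24,28,32,36,40,44,48,52,56,60,64,68,76,80,84,88,92,96,100,104,108,112,116,0,20,24,28,32,36,40,44,48,52,56,60,64,68,76]))))
  U_K4) = true := by decide +kernel

theorem U_idx : Idx.{u} iv (U_R ++ []) ([1,2,3,4,6,7].map fun x => [x]) [1,2,3,4,5,6,7] 22880 :=
  Reach.idx U_n_ok (reach_runH U_n_ok (tbk_eq tr15 (by norm_num) (by norm_num) (by norm_num) U_n_ok) U_n_rel U_K4_reach _ _) U_fin (by norm_num)

end Cfsg.Lib.Comp.Suz
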